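import Mathlib
import Groth.Agent.S19876
import Groth.Agent.S13734

/-!
# Flatness descends along universally submersive covers of reduced Noetherian schemes
-/

set_option autoImplicit false
set_option backward.isDefEq.respectTransparency.types false

universe u

open CategoryTheory Limits AlgebraicGeometry TensorProduct

namespace Groth.Agent.FlatDesc8

theorem flat_of_univSubmersive {X S S' : Scheme.{u}} [AlgebraicGeometry.IsNoetherian S] [IsReduced S] [S.IsSeparated]
    (f : X ⟶ S) [LocallyOfFiniteType f] (g : S' ⟶ S) [LocallyOfFiniteType g] [QuasiCompact g]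
    [IsSeparated g] (hg : SGA1.UnivSubmersive g) (hflat : Flat (pullback.snd f g)) : Flat f := by
  haveI := hflat
  rw [HasRingHomProperty.iff_appLE (P := @Flat)]
  intro U V e
  haveI : IsNoetherianRing Γ(S, U.1) := IsLocallyNoetherian.component_noetherian U
  haveI : _root_.IsReduced Γ(S, U.1) := inferInstance
  algebraize [(f.appLE U.1 V.1 e).hom]
  haveI : Algebra.FiniteType Γ(S, U.1) Γ(X, V.1) :=
    LocallyOfFiniteType.finiteType_appLE f U.2 V.2 e
  change Module.Flat Γ(S, U.1) Γ(X, V.1)
  refine (S19876.result Γ(S, U.1) Γ(X, V.1) Γ(X, V.1)).2 ?_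
  intro R _ _ _ _
  obtain ⟨R', i₁, i₂, i₃, φ, h, hφs, hh⟩ := (S13734.result g).1 hg R
    (Spec.map (CommRingCat.ofHom (algebraMap Γ(S, U.1) R)) ≫ U.2.fromSpec)
  letI := i₁
  haveI := i₂
  haveI := i₃
  let ψ : R →+* R' := (Spec.preimage φ).hom
  have hψ : Spec.map (CommRingCat.ofHom ψ) = φ := Spec.map_preimage φ
  letI : Algebra R R' := ψ.toAlgebra
  letI : Algebra Γ(S, U.1) R' := (ψ.comp (algebraMap Γ(S, U.1) R)).toAlgebra
  haveI : IsScalarTower Γ(S, U.1) R R' := IsScalarTower.of_algebraMap_eq fun _ => rfl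
  have hsur : Function.Surjective (PrimeSpectrum.comap (algebraMap R R')) := fun p => by
    obtain ⟨z, hz⟩ := (hψ ▸ hφs : Surjective (Spec.map (CommRingCat.ofHom ψ))).surj p
    exact ⟨z, hz⟩
  have hinj : Function.Injective (algebraMap R R') := by
    rw [injective_iff_map_eq_zero]
    intro a ha
    obtain ⟨z, hz⟩ := hsur ⟨⊥, Ideal.isPrime_bot⟩
    have h1 : a ∈ (PrimeSpectrum.comap (algebraMap R R') z).asIdeal := by
      rw [PrimeSpectrum.comap_asIdeal, Ideal.mem_comap, ha]
      exact Ideal.zero_mem _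
    rw [hz] at h1
    exact (Ideal.mem_bot).1 h1
  haveI : Module.Flat R R' := by
    haveI : Module.IsTorsionFree R R' := Module.isTorsionFree_iff_smul_eq_zero.2 fun a b hab => by
      rw [Algebra.smul_def, mul_eq_zero] at hab
      exact hab.imp (fun h => hinj (h.trans (map_zero _).symm)) id
    infer_instance
  haveI : Module.FaithfullyFlat R R' := Module.FaithfullyFlat.of_comap_surjective hsur
  -- the base change to `R'` is flat
  let fV := Spec.map (CommRingCat.ofHom (algebraMap Γ(S, U.1) Γ(X, V.1)))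
  let b := Spec.map (CommRingCat.ofHom (algebraMap Γ(S, U.1) R'))
  have hfac : fV ≫ U.2.fromSpec = V.2.fromSpec ≫ f := IsAffineOpen.SpecMap_appLE_fromSpec f U.2 V.2 e
  have hb : b ≫ U.2.fromSpec = h ≫ g := by
    rw [hh, ← hψ, ← Spec.map_comp_assoc, ← CommRingCat.ofHom_comp]
  haveI : Flat (pullback.snd f (h ≫ g)) := by
    rw [show pullback.snd f (h ≫ g) = (pullbackLeftPullbackSndIso f g h).inv ≫ pullback.snd (pullback.snd f g) h
      by simp]
    infer_instance
  haveI : Flat (pullback.snd fV b) := by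
    have h1 : IsPullback (pullback.fst fV b) (pullback.snd fV b) (fV ≫ U.2.fromSpec) (b ≫ U.2.fromSpec) :=
      IsPullback.of_isLimit' ⟨by rw [pullback.condition_assoc]⟩
        (PullbackCone.IsLimit.mk _
          (fun s => pullback.lift s.fst s.snd (by
            rw [← cancel_mono U.2.fromSpec, Category.assoc, Category.assoc, s.condition]))
          (fun s => pullback.lift_fst _ _ _) (fun s => pullback.lift_snd _ _ _)
          (fun s m h1 h2 => pullback.hom_ext (h1.trans (pullback.lift_fst _ _ _).symm)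
            (h2.trans (pullback.lift_snd _ _ _).symm)))
    rw [hfac, hb] at h1
    let t : pullback fV b ⟶ pullback f (h ≫ g) :=
      pullback.lift (pullback.fst fV b ≫ V.2.fromSpec) (pullback.snd fV b) (by rw [Category.assoc, h1.w])
    have h2 : IsPullback (pullback.fst fV b) t V.2.fromSpec (pullback.fst f (h ≫ g)) :=
      IsPullback.of_bot (by rw [pullback.lift_snd]; exact h1) (pullback.lift_fst _ _ _).symm
        (IsPullback.of_hasPullback f (h ≫ g))
    haveI : Flat t := MorphismProperty.of_isPullback h2 inferInstance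
    have : t ≫ pullback.snd f (h ≫ g) = pullback.snd fV b := pullback.lift_snd _ _ _
    rw [← this]
    infer_instance
  have hRB : Module.Flat R' (R' ⊗[Γ(S, U.1)] Γ(X, V.1)) := by
    have h3 : Flat (Spec.map (CommRingCat.ofHom (algebraMap R' (R' ⊗[Γ(S, U.1)] Γ(X, V.1))))) := by
      rw [← pullbackSpecIso_inv_fst']
      rw [show pullback.fst b fV = (pullbackSymmetry b fV).hom ≫ pullback.snd fV b from
        (pullbackSymmetry_hom_comp_snd b fV).symm]
      infer_instance
    exact RingHom.flat_algebraMap_iff.1 ((Flat.SpecMap_iff (f := CommRingCat.ofHom _)).1 h3)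
  haveI : Module.Flat R' (R' ⊗[R] (R ⊗[Γ(S, U.1)] Γ(X, V.1))) :=
    Module.Flat.of_linearEquiv (TensorProduct.AlgebraTensorModule.cancelBaseChange Γ(S, U.1) R R' R' Γ(X, V.1))
  exact Module.Flat.of_flat_tensorProduct R (R ⊗[Γ(S, U.1)] Γ(X, V.1)) R'

end Groth.Agent.FlatDesc8
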